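import Groth.Prelude.Def_W4stkflatp2Cpct
import Mathlib.AlgebraicGeometry.Morphisms.Immersion
import Mathlib.AlgebraicGeometry.Morphisms.Proper
import Mathlib.AlgebraicGeometry.Morphisms.Separated
import Mathlib.CategoryTheory.Localization.CalculusOfFractions
import Mathlib.CategoryTheory.Localization.Construction
import Mathlib.CategoryTheory.Localization.Predicate

/-!
Right calculus of fractions for compactifications: the closure of a graph.
-/

set_option autoImplicit false
set_option maxHeartbeats 300000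
universe u
open CategoryTheory CategoryTheory.Limits AlgebraicGeometry

namespace Groth.CpctRight

/-- Two morphisms out of a scheme-theoretic image into a separated scheme agreeing on the source are
equal. -/
theorem ext_image {X Y T S : Scheme.{u}} (f : X ⟶ Y) [QuasiCompact f] (a b : f.image ⟶ T)
    (t : T ⟶ S) [IsSeparated t] (hS : a ≫ t = b ≫ t) (h : f.toImage ≫ a = f.toImage ≫ b) :
    a = b := by
  let ab : f.image ⟶ pullback t t := pullback.lift a b hS
  let e : pullback ab (pullback.diagonal t) ⟶ f.image := pullback.fst _ _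
  have hw : f.toImage ≫ ab = (f.toImage ≫ a) ≫ pullback.diagonal t := by
    apply pullback.hom_ext
    · simp only [Category.assoc, ab, pullback.diagonal_fst, Category.comp_id]
      erw [pullback.lift_fst]
    · simp only [Category.assoc, ab, pullback.diagonal_snd, Category.comp_id]
      erw [pullback.lift_snd]
      exact h.symm
  let l : X ⟶ pullback ab (pullback.diagonal t) := pullback.lift f.toImage (f.toImage ≫ a) hw
  have hker : (e ≫ f.imageι).ker ≤ f.imageι.ker := by
    rw [show f.imageι.ker = f.ker from f.ker.ker_subschemeι]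
    calc (e ≫ f.imageι).ker ≤ (l ≫ e ≫ f.imageι).ker := Scheme.Hom.le_ker_comp _ _
      _ = f.ker := by rw [pullback.lift_fst_assoc, Scheme.Hom.toImage_imageι]
  let s : f.image ⟶ pullback ab (pullback.diagonal t) :=
    IsClosedImmersion.lift (e ≫ f.imageι) f.imageι hker
  have hs : s ≫ e = 𝟙 _ := by
    rw [← cancel_mono f.imageι, Category.assoc, IsClosedImmersion.lift_fac, Category.id_comp]
  have he : e ≫ a = e ≫ b := by
    have h1 := congrArg (fun z ↦ z ≫ pullback.fst t t)
      (pullback.condition (f := ab) (g := pullback.diagonal t))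
    have h2 := congrArg (fun z ↦ z ≫ pullback.snd t t)
      (pullback.condition (f := ab) (g := pullback.diagonal t))
    simp only [Category.assoc, ab, pullback.lift_fst, pullback.lift_snd, pullback.diagonal_fst,
      pullback.diagonal_snd, Category.comp_id] at h1 h2
    rw [h1, h2]
  calc a = s ≫ e ≫ a := by rw [reassoc_of% hs]
    _ = b := by rw [he, reassoc_of% hs]

section Roofs

universe v₁ v₂ u₁ u₂

variable {C : Type u₁} [Category.{v₁} C] {D : Type u₂} [Category.{v₂} D] {W : MorphismProperty C}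

/-- Criterion for a functor to be a localization with respect to a right multiplicative system. -/
theorem isLocalization_of_roofs [W.HasRightCalculusOfFractions] (F : C ⥤ D)
    (hF : W.IsInvertedBy F) [F.EssSurj]
    (hfull : ∀ ⦃A B : C⦄ (h : F.obj A ⟶ F.obj B),
      ∃ φ : W.RightFraction A B, F.map φ.s ≫ h = F.map φ.f)
    (hfaith : ∀ ⦃A B : C⦄ (φ ψ : W.RightFraction A B), φ.map F hF = ψ.map F hF →
      MorphismProperty.RightFractionRel φ ψ) : F.IsLocalization W := by
  let G := Localization.Construction.lift F hF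
  have fac : W.Q ⋙ G = F := Localization.Construction.fac _ _
  suffices G.IsEquivalence from { inverts := hF, isEquivalence := this }
  clear_value G
  subst fac
  have hmap : ∀ ⦃A B : C⦄ (χ : W.RightFraction A B),
      G.map (χ.map W.Q (Localization.inverts _ _)) = χ.map (W.Q ⋙ G) hF := by
    intro A B χ
    simp [MorphismProperty.RightFraction.map]
  haveI : G.Full := by
    refine ⟨fun {X Y} h ↦ ?_⟩
    obtain ⟨A, rfl⟩ := (Localization.Construction.objEquiv W).surjective X
    obtain ⟨B, rfl⟩ := (Localization.Construction.objEquiv W).surjective Y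
    obtain ⟨φ, hφ⟩ := hfull (A := A) (B := B) h
    haveI := hF _ φ.hs
    refine ⟨φ.map W.Q (Localization.inverts _ _), (hmap φ).trans ?_⟩
    rw [← cancel_epi ((W.Q ⋙ G).map φ.s), MorphismProperty.RightFraction.map_s_comp_map]
    exact hφ.symm
  haveI : G.Faithful := by
    refine ⟨fun {X Y} a b hab ↦ ?_⟩
    obtain ⟨A, rfl⟩ := (Localization.Construction.objEquiv W).surjective X
    obtain ⟨B, rfl⟩ := (Localization.Construction.objEquiv W).surjective Y
    obtain ⟨φ, rfl⟩ := Localization.exists_rightFraction W.Q W (X := A) (Y := B) a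
    obtain ⟨ψ, rfl⟩ := Localization.exists_rightFraction W.Q W (X := A) (Y := B) b
    exact (MorphismProperty.RightFraction.map_eq_iff W.Q W φ ψ).2
      (hfaith φ ψ ((hmap φ).symm.trans (hab.trans (hmap ψ))))
  haveI : G.EssSurj := ⟨fun d ↦
    ⟨W.Q.obj ((W.Q ⋙ G).objPreimage d), ⟨(W.Q ⋙ G).objObjPreimageIso d⟩⟩⟩
  exact { }

end Roofs

variable {S : Scheme.{u}}

theorem isoOpen_iff {A B : Cpct.Pair S} (f : A ⟶ B) :
    Cpct.isoOpen S f ↔ IsIso (Cpct.openOver.map f) := by
  refine ⟨fun h ↦ ?_, fun h ↦ ?_⟩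
  · haveI : IsIso ((Over.forget S).map (Cpct.openOver.map f)) := h
    exact isIso_of_reflects_iso _ (Over.forget S)
  · exact inferInstanceAs (IsIso ((Over.forget S).map (Cpct.openOver.map f)))

theorem ι_bar_eq_of_map_eq {A B : Cpct.Pair S} (a b : A ⟶ B)
    (h : Cpct.openOver.map a = Cpct.openOver.map b) :
    A.U.ι ≫ (Cpct.Pair.Hom.bar a).left = A.U.ι ≫ (Cpct.Pair.Hom.bar b).left := by
  have h1 : Cpct.restr a = Cpct.restr b := congrArg (fun z : _ ⟶ _ ↦ Over.Hom.left z) h
  have h2 := congrArg (· ≫ B.U.ι) h1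
  simpa only [Cpct.restr, Scheme.Hom.resLE_comp_ι] using h2

/-- A pair whose open part is schematically dense, as far as morphisms of pairs can tell. -/
def IsDensePair (A : Cpct.Pair S) : Prop :=
  ∀ ⦃B : Cpct.Pair S⦄ (a b : A ⟶ B), Cpct.openOver.map a = Cpct.openOver.map b → a = b

/-- A morphism of open parts is the restriction of a morphism out of a dense refinement (the
schematic closure of the graph). -/
theorem exists_graph [QuasiSeparatedSpace S] {A B : Cpct.Pair S}
    (h : Cpct.openOver.obj A ⟶ Cpct.openOver.obj B) :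
    ∃ (A' : Cpct.Pair S) (p : A' ⟶ A) (q : A' ⟶ B), Cpct.isoOpen S p ∧
      Cpct.openOver.map p ≫ h = Cpct.openOver.map q ∧ IsDensePair A' := by
  haveI := A.isProper
  haveI := B.isProper
  haveI : QuasiSeparatedSpace A.bar.left :=
    quasiSeparatedSpace_of_quasiSeparated A.bar.hom
  haveI : CompactSpace (A.U : Scheme.{u}) := isCompact_iff_compactSpace.mp A.isCompact
  haveI : QuasiCompact A.U.ι := inferInstance
  have hw : A.U.ι ≫ A.bar.hom = (h.left ≫ B.U.ι) ≫ B.bar.hom := by
    rw [Category.assoc]; exact (Over.w h).symm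
  let m : (A.U : Scheme.{u}) ⟶ pullback A.bar.hom B.bar.hom := pullback.lift _ _ hw
  haveI : IsImmersion (m ≫ pullback.fst _ _) := by rw [pullback.lift_fst]; infer_instance
  haveI : IsImmersion m := IsImmersion.of_comp m (pullback.fst _ _)
  haveI : QuasiCompact (m ≫ pullback.fst _ _) := by rw [pullback.lift_fst]; infer_instance
  haveI : QuasiCompact m := QuasiCompact.of_comp m (pullback.fst _ _)
  let str : m.image ⟶ S := (m.imageι ≫ pullback.fst _ _) ≫ A.bar.hom
  let U' : m.image.Opens := m.toImage.opensRange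
  have hU' : IsCompact (U' : Set m.image) := isCompact_range m.toImage.continuous
  let A' : Cpct.Pair S := ⟨Over.mk str, U', (inferInstance : IsProper str), hU'⟩
  have hfst : m.toImage ≫ m.imageι ≫ pullback.fst _ _ = A.U.ι := by
    rw [Scheme.Hom.toImage_imageι_assoc, pullback.lift_fst]
  have hsnd : m.toImage ≫ m.imageι ≫ pullback.snd _ _ = h.left ≫ B.U.ι := by
    rw [Scheme.Hom.toImage_imageι_assoc, pullback.lift_snd]
  let p : A' ⟶ A := ⟨Over.homMk (m.imageι ≫ pullback.fst _ _) rfl, fun x hx ↦ by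
    obtain ⟨z, rfl⟩ := hx
    show (m.toImage ≫ m.imageι ≫ pullback.fst _ _) z ∈ A.U
    rw [hfst]
    exact z.2⟩
  let q : A' ⟶ B := ⟨Over.homMk (m.imageι ≫ pullback.snd _ _)
    (by simp [A', str, pullback.condition]), fun x hx ↦ by
      obtain ⟨z, rfl⟩ := hx
      show (m.toImage ≫ m.imageι ≫ pullback.snd _ _) z ∈ B.U
      rw [hsnd]
      exact (h.left z).2⟩
  let e : (A.U : Scheme.{u}) ⟶ (U' : Scheme.{u}) := m.toImage.isoOpensRange.hom
  haveI : IsIso e := inferInstanceAs (IsIso m.toImage.isoOpensRange.hom)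
  have he : e ≫ U'.ι = m.toImage := by simp [e, U']
  have hp : e ≫ Cpct.restr p = 𝟙 _ := by
    rw [← cancel_mono A.U.ι, Category.assoc, Category.id_comp]
    show e ≫ Scheme.Hom.resLE _ _ _ _ ≫ _ = _
    rw [Scheme.Hom.resLE_comp_ι]
    exact ((Category.assoc _ _ _).symm.trans (congrArg (· ≫ _) he)).trans hfst
  have hpI : IsIso (Cpct.restr p) := by
    rw [← IsIso.inv_eq_of_hom_inv_id hp]; infer_instance
  refine ⟨A', p, q, hpI, ?_, fun C a b hab ↦ ?_⟩
  · ext1
    let hl : (A.U : Scheme.{u}) ⟶ (B.U : Scheme.{u}) := h.left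
    have key : (e ≫ Cpct.restr p ≫ hl) ≫ B.U.ι = (e ≫ Cpct.restr q) ≫ B.U.ι := by
      rw [reassoc_of% hp, Category.assoc]
      show _ = e ≫ Scheme.Hom.resLE _ _ _ _ ≫ _
      rw [Scheme.Hom.resLE_comp_ι]
      exact ((((Category.assoc _ _ _).symm.trans (congrArg (· ≫ _) he))).trans hsnd).symm
    exact (cancel_epi e).1 ((cancel_mono B.U.ι).1 key)
  · haveI := C.isProper
    have hr := congrArg (e ≫ ·) (ι_bar_eq_of_map_eq a b hab)
    refine Cpct.Pair.Hom.ext (Over.OverMorphism.ext ?_)
    refine ext_image m _ _ C.bar.hom ((Over.w a.bar).trans (Over.w b.bar).symm) ?_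
    calc m.toImage ≫ _ = (e ≫ U'.ι) ≫ _ := by rw [he]
      _ = e ≫ U'.ι ≫ _ := Category.assoc _ _ _
      _ = e ≫ U'.ι ≫ _ := hr
      _ = (e ≫ U'.ι) ≫ _ := (Category.assoc _ _ _).symm
      _ = m.toImage ≫ _ := by rw [he]

theorem hasRightCalculusOfFractions [QuasiSeparatedSpace S] :
    (Cpct.isoOpen S).HasRightCalculusOfFractions where
  id_mem A := (isoOpen_iff _).2 (by rw [CategoryTheory.Functor.map_id]; infer_instance)
  comp_mem f g hf hg := (isoOpen_iff _).2 (by
    rw [Functor.map_comp]
    haveI := (isoOpen_iff _).1 hf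
    haveI := (isoOpen_iff _).1 hg
    infer_instance)
  exists_rightFraction {X Y} φ := by
    haveI := (isoOpen_iff _).1 φ.hs
    obtain ⟨A', p, q, hp, hpq, hd⟩ :=
      exists_graph (Cpct.openOver.map φ.f ≫ inv (Cpct.openOver.map φ.s))
    refine ⟨⟨p, hp, q⟩, hd _ _ ?_⟩
    simp only [Functor.map_comp, ← hpq, Category.assoc, IsIso.inv_hom_id, Category.comp_id]
  ext {X Y Y'} f₁ f₂ s hs h := by
    haveI := (isoOpen_iff _).1 hs
    obtain ⟨A', p, q, hp, -, hd⟩ := exists_graph (𝟙 (Cpct.openOver.obj X))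
    refine ⟨A', p, hp, hd _ _ ?_⟩
    have h' := congrArg Cpct.openOver.map h
    simp only [Functor.map_comp, cancel_mono] at h'
    rw [Functor.map_comp, Functor.map_comp, h']

theorem inverts : (Cpct.isoOpen S).IsInvertedBy (Cpct.openFunctor S) := fun A B f hf ↦ by
  haveI : IsIso ((ObjectProperty.ι _).map ((Cpct.openFunctor S).map f)) := (isoOpen_iff f).1 hf
  exact isIso_of_reflects_iso _ (ObjectProperty.ι (Cpct.IsCompactifyable S))

theorem openOver_map_eq {A B : Cpct.Pair S} (a : A ⟶ B) :
    (ObjectProperty.ι (Cpct.IsCompactifyable S)).map ((Cpct.openFunctor S).map a) =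
      Cpct.openOver.map a := rfl

theorem isLocalization [QuasiSeparatedSpace S] :
    (Cpct.openFunctor S).IsLocalization (Cpct.isoOpen S) := by
  haveI := hasRightCalculusOfFractions (S := S)
  haveI : (Cpct.openFunctor S).EssSurj := ⟨fun X ↦ by
    obtain ⟨A, ⟨e⟩⟩ := X.2
    exact ⟨A, ⟨(ObjectProperty.ι _).preimageIso e⟩⟩⟩
  refine isLocalization_of_roofs _ inverts (fun A B h ↦ ?_) (fun A B φ ψ hφψ ↦ ?_)
  · obtain ⟨A', p, q, hp, hpq, -⟩ :=
      exists_graph ((ObjectProperty.ι (Cpct.IsCompactifyable S)).map h)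
    refine ⟨⟨p, hp, q⟩, (ObjectProperty.ι (Cpct.IsCompactifyable S)).map_injective ?_⟩
    rw [Functor.map_comp]
    exact hpq
  · haveI := (isoOpen_iff _).1 φ.hs
    haveI := (isoOpen_iff _).1 ψ.hs
    haveI := inverts _ φ.hs
    haveI := inverts _ ψ.hs
    obtain ⟨Z, t₁, t₂, ht₁, ht, hd⟩ :=
      exists_graph (Cpct.openOver.map φ.s ≫ inv (Cpct.openOver.map ψ.s))
    have hst : t₁ ≫ φ.s = t₂ ≫ ψ.s := hd _ _ (by
      simp only [Functor.map_comp, ← ht, Category.assoc, IsIso.inv_hom_id, Category.comp_id])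
    refine ⟨Z, t₁, t₂, hst, hd _ _ ?_, MorphismProperty.comp_mem _ _ _ ht₁ φ.hs⟩
    rw [← openOver_map_eq, ← openOver_map_eq]
    congr 1
    simp only [Functor.map_comp]
    rw [← MorphismProperty.RightFraction.map_s_comp_map φ _ inverts,
      ← MorphismProperty.RightFraction.map_s_comp_map ψ _ inverts, ← Category.assoc,
      ← Category.assoc, ← Functor.map_comp, ← Functor.map_comp, hst, hφψ]

end Groth.CpctRight
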